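import Mathlib
import Cfsg.Prelude.Def_Solvable

/-!
# Local balance at an automorphism: a criterion for `O_{p'}(C_A(x))`

`K` has trivial centre, `A` is a group of automorphisms containing the inner ones. The fixed points of `x`
give a normal subgroup of `C_A(x)`; if a subgroup `L` of them, invariant under all fixed points, has no
normal `p'`-subgroup and no `p'`-automorphism centralises both `x` and `L`, the core is trivial.
-/

set_option autoImplicit false

namespace Cfsg.Agent.Lib.LocalBalance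

variable {K : Type*} [Group K]

theorem conj_injective_of_center (hZ : Subgroup.center K = ⊥) :
    Function.Injective (MulAut.conj : K →* MulAut K) := by
  rw [injective_iff_map_eq_one]
  intro k hk
  rw [← Subgroup.mem_bot, ← hZ, Subgroup.mem_center_iff]
  intro y
  have := DFunLike.congr_fun hk y
  rw [MulAut.conj_apply, MulAut.one_apply] at this
  exact (mul_inv_eq_iff_eq_mul.1 this).symm

theorem center_eq_bot_of_simple [IsSimpleGroup K] (h : ∃ a b : K, a * b ≠ b * a) :
    Subgroup.center K = ⊥ := by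
  refine (IsSimpleGroup.eq_bot_or_eq_top_of_normal _ inferInstance).resolve_right fun ht => ?_
  obtain ⟨a, b, hab⟩ := h
  exact hab (Subgroup.mem_center_iff.1 (ht.ge (Subgroup.mem_top b)) a)

theorem mul_conj_inv (α : MulAut K) (k : K) : α * MulAut.conj k * α⁻¹ = MulAut.conj (α k) := by
  ext y
  simp

theorem conj_mem_centralizer {A : Subgroup (MulAut K)} (hinn : ∀ k : K, MulAut.conj k ∈ A) {x : MulAut K}
    {k : K} (hk : x k = k) : MulAut.conj k ∈ A ⊓ Subgroup.centralizer {x} := by
  refine ⟨hinn k, Subgroup.mem_centralizer_singleton_iff.2 ?_⟩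
  have h := mul_conj_inv x k
  rw [hk] at h
  exact (mul_inv_eq_iff_eq_mul.1 h).symm

/-- If `p` does not divide the number of fixed points, and there are some, the core is nontrivial. -/
theorem core_ne_bot_of_coprime {p : ℕ} (hinj : Function.Injective (MulAut.conj : K →* MulAut K))
    (A : Subgroup (MulAut K)) (hinn : ∀ k : K, MulAut.conj k ∈ A) (x : MulAut K)
    (hne : ∃ k : K, k ≠ 1 ∧ x k = k)
    (hco : Nat.Coprime p (Nat.card ↥(MonoidHom.eqLocus x.toMonoidHom (MonoidHom.id K)))) :
    Cfsg.pPrimeCore p ↥(A ⊓ Subgroup.centralizer {x}) ≠ ⊥ := by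
  intro hbot
  set C := A ⊓ Subgroup.centralizer {x}
  set CK := MonoidHom.eqLocus x.toMonoidHom (MonoidHom.id K)
  let f : ↥CK →* ↥C := ((MulAut.conj).comp CK.subtype).codRestrict C fun k => conj_mem_centralizer hinn k.2
  have hfinj : Function.Injective f := fun a b h => Subtype.ext (hinj (congrArg Subtype.val h))
  have hnorm : f.range.Normal := ⟨by
    rintro _ ⟨k, rfl⟩ a
    have ha := Subgroup.mem_centralizer_singleton_iff.1 a.2.2
    refine ⟨⟨(a : MulAut K) (k : K), ?_⟩, Subtype.ext (mul_conj_inv _ _).symm⟩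
    show x ((a : MulAut K) k) = (a : MulAut K) k
    calc x ((a : MulAut K) k) = (x * a) (k : K) := rfl
      _ = ((a : MulAut K) * x) (k : K) := by rw [ha]
      _ = _ := congrArg (a : MulAut K) k.2⟩
  have hle : f.range ≤ Cfsg.pPrimeCore p ↥C := le_sSup ⟨hnorm, by
    rw [← Nat.card_congr (MonoidHom.ofInjective hfinj).toEquiv]; exact hco.symm⟩
  rw [hbot] at hle
  obtain ⟨k, hk1, hk⟩ := hne
  have h1 : f ⟨k, hk⟩ = 1 := Subgroup.mem_bot.1 (hle ⟨⟨k, hk⟩, rfl⟩)
  exact hk1 (congrArg Subtype.val (hfinj (h1.trans (map_one f).symm)))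

/-- The core is trivial in presence of a subgroup of fixed points with the two properties. -/
theorem core_eq_bot_of_subgroup [Finite K] {p : ℕ}
    (hinj : Function.Injective (MulAut.conj : K →* MulAut K))
    (A : Subgroup (MulAut K)) (hinn : ∀ k : K, MulAut.conj k ∈ A) (x : MulAut K) (L : Subgroup K)
    (hLfix : ∀ l ∈ L, x l = l) (hLnorm : ∀ k : K, x k = k → ∀ l ∈ L, k * l * k⁻¹ ∈ L)
    (hLcore : ∀ M : Subgroup ↥L, M.Normal → (Nat.card ↥M).Coprime p → M = ⊥)
    (hcent : ∀ a : MulAut K, a * x = x * a → (orderOf a).Coprime p → (∀ l ∈ L, a l = l) → a = 1) :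
    Cfsg.pPrimeCore p ↥(A ⊓ Subgroup.centralizer {x}) = ⊥ := by
  classical
  haveI : Finite (MulAut K) := Finite.of_injective (fun e : MulAut K => (e : K → K)) DFunLike.coe_injective
  set C := A ⊓ Subgroup.centralizer {x}
  refine eq_bot_iff.2 (sSup_le ?_)
  rintro N₀ ⟨hN₀, hco₀⟩
  set N := N₀.map C.subtype with hN
  have hcoN : (Nat.card ↥N).Coprime p := by
    rwa [hN, Subgroup.card_map_of_injective C.subtype_injective]
  have hNC : N ≤ C := by rintro _ ⟨n, -, rfl⟩; exact n.2
  have hnormN : ∀ c ∈ C, ∀ n ∈ N, c * n * c⁻¹ ∈ N := by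
    rintro c hc _ ⟨n, hn, rfl⟩
    exact ⟨⟨c, hc⟩ * n * ⟨c, hc⟩⁻¹, hN₀.conj_mem n hn _, rfl⟩
  suffices hbot : N = ⊥ by
    rw [hN, Subgroup.map_eq_bot_iff_of_injective _ C.subtype_injective] at hbot
    exact hbot.le
  set j : ↥L →* MulAut K := (MulAut.conj).comp L.subtype with hj
  have hjinj : Function.Injective j := hinj.comp L.subtype_injective
  have hjC : ∀ l, j l ∈ C := fun l => conj_mem_centralizer hinn (hLfix _ l.2)
  have hjN : ∀ l, j l ∈ N → l = 1 := by
    intro l hl
    have hM := hLcore (N.comap j) ⟨fun y hy g => by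
        show j (g * y * g⁻¹) ∈ N
        rw [map_mul, map_mul, map_inv]
        exact hnormN _ (hjC g) _ hy⟩
      (Nat.Coprime.coprime_dvd_left (Subgroup.card_comap_dvd_of_injective N j hjinj) hcoN)
    rw [← Subgroup.mem_bot, ← hM]
    exact hl
  have hkey : ∀ n ∈ N, (∀ l ∈ L, n l = l) → n = 1 := fun n hn hf => by
    refine hcent n (Subgroup.mem_centralizer_singleton_iff.1 (hNC hn).2)
      (Nat.Coprime.coprime_dvd_left ?_ hcoN) hf
    rw [← Subgroup.orderOf_mk _ hn]
    exact orderOf_dvd_natCard _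
  have hcomm : ∀ n ∈ N, ∀ l ∈ L, MulAut.conj (n l * l⁻¹) ∈ N := fun n hn l hl => by
    have h2 := mul_mem hn (hnormN _ (hjC ⟨l, hl⟩) _ (inv_mem hn))
    have h3 : n * (j ⟨l, hl⟩ * n⁻¹ * (j ⟨l, hl⟩)⁻¹) = MulAut.conj (n l * l⁻¹) := by
      show n * (MulAut.conj l * n⁻¹ * (MulAut.conj l)⁻¹) = _
      rw [map_mul, map_inv, ← mul_conj_inv]
      group
    rwa [h3] at h2
  have hinnN : ∀ k : K, MulAut.conj k ∈ N → k = 1 := by
    intro k hk
    apply hinj
    rw [map_one]
    refine hkey _ hk fun l hl => ?_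
    have hxk : x k = k := hinj (by
      have h := Subgroup.mem_centralizer_singleton_iff.1 (hNC hk).2
      rw [← mul_conj_inv, ← h, mul_inv_cancel_right])
    have hmem : MulAut.conj k l * l⁻¹ ∈ L := mul_mem (hLnorm k hxk l hl) (inv_mem hl)
    have := hjN ⟨_, hmem⟩ (hcomm _ hk l hl)
    exact mul_inv_eq_one.1 (congrArg Subtype.val this)
  exact (Subgroup.eq_bot_iff_forall _).2 fun n hn =>
    hkey n hn fun l hl => mul_inv_eq_one.1 (hinnN _ (hcomm n hn l hl))

/-- Transport along conjugation by an automorphism `c`. -/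
theorem core_conj {p : ℕ} (A : Subgroup (MulAut K)) (c x : MulAut K) :
    Cfsg.pPrimeCore p ↥(A ⊓ Subgroup.centralizer {c * x * c⁻¹}) = ⊥ ↔
      Cfsg.pPrimeCore p ↥(A.comap (MulAut.conj c).toMonoidHom ⊓ Subgroup.centralizer {x}) = ⊥ := by
  set e : MulAut (MulAut K) := MulAut.conj c with he
  have hCeq : A.comap e.toMonoidHom ⊓ Subgroup.centralizer {x}
      = (A ⊓ Subgroup.centralizer {c * x * c⁻¹}).comap e.toMonoidHom := by
    ext a
    rw [Subgroup.mem_comap, Subgroup.mem_inf, Subgroup.mem_inf, Subgroup.mem_centralizer_singleton_iff,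
      Subgroup.mem_centralizer_singleton_iff]
    refine and_congr Iff.rfl ?_
    show _ ↔ e a * e x = e x * e a
    rw [← map_mul, ← map_mul, e.injective.eq_iff]
  rw [hCeq]
  exact (pPrimeCore_eq_bot_congr (comapEquiv e _) p).symm
where
  comapEquiv {G : Type _} [Group G] (e : G ≃* G) (H : Subgroup G) : ↥(H.comap e.toMonoidHom) ≃* ↥H :=
    { toFun := fun a => ⟨e a, a.2⟩
      invFun := fun b => ⟨e.symm b, by show e (e.symm b) ∈ H; rw [e.apply_symm_apply]; exact b.2⟩
      left_inv := fun a => Subtype.ext (e.symm_apply_apply _)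
      right_inv := fun b => Subtype.ext (e.apply_symm_apply _)
      map_mul' := fun a b => Subtype.ext (map_mul e _ _) }
  pPrimeCore_eq_bot_congr {G H : Type _} [Group G] [Group H] (e : G ≃* H) (p : ℕ) :
      Cfsg.pPrimeCore p G = ⊥ ↔ Cfsg.pPrimeCore p H = ⊥ := by
    have key : ∀ {G H : Type _} [Group G] [Group H] (e : G ≃* H),
        Cfsg.pPrimeCore p G = ⊥ → Cfsg.pPrimeCore p H = ⊥ := by
      intro G H _ _ e hG
      refine eq_bot_iff.2 (sSup_le ?_)
      rintro N ⟨hN, hco⟩
      have h1 : N.map e.symm.toMonoidHom ≤ Cfsg.pPrimeCore p G :=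
        le_sSup ⟨hN.map _ e.symm.surjective, by
          rwa [Subgroup.card_map_of_injective e.symm.injective]⟩
      rw [hG, le_bot_iff, Subgroup.map_eq_bot_iff_of_injective _ e.symm.injective] at h1
      exact h1.le
    exact ⟨key e, key e.symm⟩

theorem natCard_fixed_conj (c x : MulAut K) :
    Nat.card ↥(MonoidHom.eqLocus (c * x * c⁻¹).toMonoidHom (MonoidHom.id K))
      = Nat.card ↥(MonoidHom.eqLocus x.toMonoidHom (MonoidHom.id K)) := by
  refine (Nat.card_congr (Equiv.subtypeEquiv c.toEquiv fun y => ?_)).symm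
  show x y = y ↔ c (x (c.symm (c y))) = c y
  rw [MulEquiv.symm_apply_apply, c.injective.eq_iff]

/-- An involutive map changes a cardinality by an even amount. -/
theorem natCard_modEq_fixed {α : Type*} [Finite α] {f : α → α} (hf : Function.Involutive f) :
    Nat.card α ≡ Nat.card {a // f a = a} [MOD 2] := by
  classical
  haveI : Fintype α := Fintype.ofFinite α
  have h := Equiv.Perm.card_fixedPoints_modEq (f := f) (p := 2) (n := 1)
    (funext fun a => hf a)
  rw [Fintype.card_eq_nat_card, Fintype.card_eq_nat_card] at h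
  exact h

/-- An automorphism of order two of a group of even order has an even number of fixed points. -/
theorem two_dvd_fixed [Finite K] (h : 2 ∣ Nat.card K) {x : MulAut K} (hx : x ^ 2 = 1) :
    2 ∣ Nat.card ↥(MonoidHom.eqLocus x.toMonoidHom (MonoidHom.id K)) := by
  refine Nat.modEq_zero_iff_dvd.1 (((natCard_modEq_fixed (f := x) fun a => ?_).symm).trans
    (Nat.modEq_zero_iff_dvd.2 h))
  exact DFunLike.congr_fun ((sq x).symm.trans hx) a

/-- The image of the fixed points of a lift is invariant under the fixed points, for a central kernel. -/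
theorem conj_mem_map_fixed {S : Type*} [Group S] {π : S →* K} (hπ : Function.Surjective π)
    (hker : π.ker ≤ Subgroup.center S) {x : MulAut K} {Φ : MulAut S} (hlift : ∀ s, x (π s) = π (Φ s))
    {k : K} (hk : x k = k) {l : K} (hl : l ∈ (MonoidHom.eqLocus Φ.toMonoidHom (MonoidHom.id S)).map π) :
    k * l * k⁻¹ ∈ (MonoidHom.eqLocus Φ.toMonoidHom (MonoidHom.id S)).map π := by
  obtain ⟨t, rfl⟩ := hπ k
  obtain ⟨s, hs, rfl⟩ := hl
  refine ⟨t * s * t⁻¹, ?_, by rw [map_mul, map_mul, map_inv]⟩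
  show Φ (t * s * t⁻¹) = t * s * t⁻¹
  have hz : t⁻¹ * Φ t ∈ Subgroup.center S := hker (by
    rw [MonoidHom.mem_ker, map_mul, map_inv, ← hlift, hk, inv_mul_cancel])
  have hs' : Φ s = s := hs
  rw [map_mul, map_mul, map_inv, hs']
  obtain ⟨z, hz', hΦ⟩ : ∃ z ∈ Subgroup.center S, Φ t = t * z := ⟨_, hz, (mul_inv_cancel_left _ _).symm⟩
  rw [hΦ]
  have hc := Subgroup.mem_center_iff.1 hz' s
  calc t * z * s * (t * z)⁻¹ = t * (z * s * z⁻¹) * t⁻¹ := by group
    _ = _ := by rw [← hc, mul_inv_cancel_right]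

end Cfsg.Agent.Lib.LocalBalance
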